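import Groth.Agent.Lib.ArtinApproxH7.Core
import Groth.Agent.Lib.FlatDepth.GeomFib
import Groth.Agent.Lib.GRing6.Permanence

/-!
Étale solutions near a prime of a G-ring.
-/

set_option autoImplicit false
set_option linter.style.haveILetI false

universe u

open IsLocalRing

namespace Groth.Agent.ArtinApproxH7

/-- Solutions in the completion of a local ring under `R` are approximated in étale `R`-algebras. -/
theorem exists_etale_solution_completion {R S : Type u} [CommRing R] [IsNoetherianRing R] [CommRing S]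
    [IsLocalRing S] [IsNoetherianRing S] [Algebra R S]
    (hreg : CAlg.IsRegularHom R (AdicCompletion (maximalIdeal S) S))
    (hfrac : ∀ x : S, ∃ s r : R, IsUnit (algebraMap R S s) ∧ algebraMap R S s * x = algebraMap R S r)
    {n m : ℕ} (F : Fin m → MvPolynomial (Fin n) R) (a : Fin n → AdicCompletion (maximalIdeal S) S)
    (ha : ∀ j, MvPolynomial.aeval a (F j) = 0) (N : ℕ) :
    ∃ (R' : Type u) (_ : CommRing R') (_ : Algebra R R'), Algebra.Etale R R' ∧
      ∃ (ψ : R' →ₐ[R] AdicCompletion (maximalIdeal S) S) (p' : Ideal R'), p'.IsPrime ∧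
        p' = (maximalIdeal (AdicCompletion (maximalIdeal S) S)).comap ψ.toRingHom ∧
        p'.comap (algebraMap R R') = (maximalIdeal S).comap (algebraMap R S) ∧
        (∀ x : R', ∃ r s : R, IsUnit (algebraMap R S s) ∧ algebraMap R R' s * x - algebraMap R R' r ∈ p') ∧
        (∀ x ∈ p', ψ x ∈ (maximalIdeal S).map (algebraMap S (AdicCompletion (maximalIdeal S) S))) ∧
        ∃ b : Fin n → R', (∀ j, MvPolynomial.aeval b (F j) = 0) ∧
          ∀ i, a i - ψ (b i) ∈ (maximalIdeal S ^ N).map (algebraMap S (AdicCompletion (maximalIdeal S) S)) := by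
  let T := AdicCompletion (maximalIdeal S) S
  haveI : IsScalarTower R S T := IsScalarTower.of_algebraMap_eq' rfl
  have hI : (maximalIdeal S).FG := IsNoetherian.noetherian _
  haveI : IsNoetherianRing T := Compl.isNoetherianRing_adicCompletion _ hI
  let J : Ideal T := (maximalIdeal S ^ (N + 1)).map (algebraMap S T)
  haveI : HenselianRing T J := henselianRing_pow _ hI (N + 1) (Nat.succ_pos N)
  have hfrac' : ∀ (k : ℕ) (x : T), ∃ s r : R, IsUnit (algebraMap R S s) ∧
      algebraMap R T s * x - algebraMap R T r ∈ (maximalIdeal S ^ k).map (algebraMap S T) := fun k x => by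
    obtain ⟨y, hy⟩ := exists_approx _ hI k x
    obtain ⟨s, r, hs, hsr⟩ := hfrac y
    refine ⟨s, r, hs, ?_⟩
    rw [IsScalarTower.algebraMap_apply R S T, IsScalarTower.algebraMap_apply R S T, ← hsr, map_mul, ← mul_sub]
    exact Ideal.mul_mem_left _ _ hy
  obtain ⟨R', _, _, het, ψ, b, hb, hcong⟩ := exists_etale_solution hreg J (fun x => by
    obtain ⟨s, r, hs, h⟩ := hfrac' (N + 1) x
    exact ⟨s, r, by rw [IsScalarTower.algebraMap_apply R S T]; exact hs.map _, h⟩) F a ha
  let p' : Ideal R' := (maximalIdeal T).comap ψ.toRingHom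
  have hmT : maximalIdeal T = (maximalIdeal S).map (algebraMap S T) := AdicCompletion.maximalIdeal_eq_map
  refine ⟨R', inferInstance, inferInstance, het, ψ, p', Ideal.IsPrime.comap _, rfl, ?_, fun x => ?_, fun x hx => ?_, b, hb,
    fun i => Ideal.map_mono (Ideal.pow_le_pow_right (Nat.le_succ N)) (hcong i)⟩
  · ext r
    show ψ (algebraMap R R' r) ∈ maximalIdeal T ↔ algebraMap R S r ∈ maximalIdeal S
    rw [ψ.commutes, IsScalarTower.algebraMap_apply R S T, IsLocalRing.mem_maximalIdeal, IsLocalRing.mem_maximalIdeal]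
    exact not_congr ⟨fun h => isUnit_of_map_unit (algebraMap S T) _ h, fun h => h.map _⟩
  · obtain ⟨s, r, hs, h⟩ := hfrac' 1 (ψ x)
    refine ⟨r, s, hs, ?_⟩
    show ψ (algebraMap R R' s * x - algebraMap R R' r) ∈ maximalIdeal T
    rw [map_sub, map_mul, ψ.commutes, ψ.commutes, hmT]
    rwa [pow_one] at h
  · exact hmT.le hx

end Groth.Agent.ArtinApproxH7
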