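import Groth.Agent.Lib.Hens.System
import Groth.Agent.Lib.Hens.SmoothLift
import Groth.Agent.Lib.Hens.PairOps
import Groth.Agent.Lib.SmoothRetractH7.Smooth
import Groth.Agent.Lib.GRing6.Completion
import Groth.Agent.Lib.PopescuH7.Main

/-!
Points of smooth algebras in a Henselian pair are approximated by étale ones.
-/

set_option autoImplicit false
set_option linter.style.haveILetI false

universe u

open MvPolynomial

namespace Groth.Agent.ArtinApproxH7

/-- The kernel of an evaluation of the completion. -/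
theorem mem_map_pow_iff {A : Type u} [CommRing A] (I : Ideal A) (hI : I.FG) (n : ℕ) (x : AdicCompletion I A) :
    x ∈ (I ^ n).map (algebraMap A (AdicCompletion I A)) ↔ AdicCompletion.evalₐ I n x = 0 := by
  have h1 : x ∈ (I ^ n).map (algebraMap A (AdicCompletion I A)) ↔ x ∈ (I ^ n • ⊤ : Submodule A (AdicCompletion I A)) := by
    rw [Ideal.smul_top_eq_map, Submodule.restrictScalars_mem]
  rw [h1, AdicCompletion.pow_smul_top_eq_ker_eval hI, LinearMap.mem_ker]
  have e : I ^ n • ⊤ = I ^ n := by rw [smul_eq_mul, Ideal.mul_top]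
  rw [← AdicCompletion.factor_eval_eq_evalₐ I x (le_of_eq e)]
  obtain ⟨y, hy⟩ := Submodule.Quotient.mk_surjective _ (AdicCompletion.eval I A n x)
  rw [← hy]
  show Submodule.Quotient.mk y = 0 ↔ Ideal.Quotient.mk (I ^ n) y = 0
  rw [Submodule.Quotient.mk_eq_zero, Ideal.Quotient.eq_zero_iff_mem, e]

/-- Every element of the completion is approximated by elements of the ring. -/
theorem exists_approx {A : Type u} [CommRing A] (I : Ideal A) (hI : I.FG) (n : ℕ) (x : AdicCompletion I A) :
    ∃ r : A, x - algebraMap A (AdicCompletion I A) r ∈ (I ^ n).map (algebraMap A (AdicCompletion I A)) := by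
  obtain ⟨r, hr⟩ := Ideal.Quotient.mk_surjective (AdicCompletion.evalₐ I n x)
  refine ⟨r, ?_⟩
  rw [mem_map_pow_iff I hI, map_sub, AlgHom.commutes, Ideal.Quotient.algebraMap_eq, hr, sub_self]

/-- The completion is henselian along the powers of the ideal. -/
theorem henselianRing_pow {A : Type u} [CommRing A] (I : Ideal A) (hI : I.FG) (n : ℕ) (hn : 0 < n) :
    HenselianRing (AdicCompletion I A) ((I ^ n).map (algebraMap A (AdicCompletion I A))) := by
  haveI := AdicCompletion.isAdicComplete_self I hI
  have h : HenselianRing (AdicCompletion I A) (I.map (algebraMap A (AdicCompletion I A))) := inferInstance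
  refine (Hens.henselianRing_iff_of_radical_eq ?_).2 h
  rw [Ideal.map_pow, Ideal.radical_pow _ hn.ne']

/-- A smooth algebra with a point is approximated by an étale algebra with a point. -/
theorem exists_etale_approx {R T B : Type u} [CommRing R] [CommRing T] [Algebra R T] [CommRing B] [Algebra R B]
    [Algebra.Smooth R B] (J : Ideal T) [HenselianRing T J]
    (happ : ∀ x : T, ∃ s r : R, IsUnit (algebraMap R T s) ∧ algebraMap R T s * x - algebraMap R T r ∈ J)
    (h : B →ₐ[R] T) :
    ∃ (R' : Type u) (_ : CommRing R') (_ : Algebra R R'), Algebra.Etale R R' ∧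
      ∃ (g : B →ₐ[R] R') (ψ : R' →ₐ[R] T), ∀ b, h b - ψ (g b) ∈ J := by
  classical
  obtain ⟨B₂, _, _, _, _, _, ⟨retr⟩, hstd⟩ := SmoothRetractH7.exists_retract_isStandardSmooth R B
  obtain ⟨ι, σ, _, _, ⟨P⟩⟩ := hstd.out
  letI := Fintype.ofFinite ι
  letI := Fintype.ofFinite σ
  let k := Fintype.card ι
  let e : ι ≃ Fin k := Fintype.equivFin ι
  let h₂ : B₂ →ₐ[R] T := h.comp (retr.restrictScalars R)
  let pt : Fin k → T := fun i => h₂ (P.val (e.symm i))
  choose s r hsu hsr using fun i => happ (pt i)
  -- the square system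
  let f : σ → MvPolynomial (Fin k) R := fun j => rename e (P.relation j)
  let G : Fin k → MvPolynomial (Fin k) R := fun i =>
    if hi : ∃ j, e (P.map j) = i then f hi.choose else C (s i) * X i - C (r i)
  have hGmap : ∀ j, G (e (P.map j)) = f j := fun j => by
    have hj : ∃ j', e (P.map j') = e (P.map j) := ⟨j, rfl⟩
    simp only [G, dif_pos hj]
    rw [P.map_inj (e.injective hj.choose_spec)]
  have hGfree : ∀ i, (∀ j, e (P.map j) ≠ i) → G i = C (s i) * X i - C (r i) := fun i hi => by
    simp only [G, dif_neg (not_exists.2 hi)]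
  have hptf : ∀ q : P.Ring, aeval pt (rename e q) = h₂ (aeval P.val q) := fun q => by
    rw [aeval_rename, ← AlgHom.comp_apply h₂, MvPolynomial.comp_aeval]
    congr 2
    funext v
    simp [pt]
  -- the jacobian is a unit at the point
  have hdet : IsUnit (aeval pt (Hens.jacDet G)) := by
    let M : Matrix (Fin k) (Fin k) T := Matrix.of fun i l => aeval pt (pderiv l (G i))
    have hM : aeval pt (Hens.jacDet G) = M.det := by
      rw [Hens.jacDet, AlgHom.map_det]
      rfl
    rw [hM, ← Matrix.isUnit_iff_isUnit_det, ← Matrix.mulVec_surjective_iff_isUnit]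
    let M₀ : Matrix σ σ T := (P.jacobiMatrix.transpose).map (fun q => h₂ (aeval P.val q))
    have hM₀ : IsUnit M₀ := by
      rw [Matrix.isUnit_iff_isUnit_det]
      have e1 : M₀.det = h₂ (aeval P.val P.jacobiMatrix.det) := by
        rw [← Matrix.det_transpose P.jacobiMatrix]
        exact ((h₂.comp (aeval P.val)).map_det _).symm
      rw [e1]
      refine IsUnit.map h₂ ?_
      have := P.jacobian_isUnit
      rw [Algebra.PreSubmersivePresentation.jacobian_eq_jacobiMatrix_det, Algebra.Generators.algebraMap_apply] at this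
      exact this
    intro w
    choose u hu using fun i => hsu i
    let base : Fin k → T := fun i => if ∃ j, e (P.map j) = i then 0 else ↑(u i)⁻¹ * w i
    obtain ⟨y, hy⟩ := Matrix.mulVec_surjective_iff_isUnit.2 hM₀ (fun j => w (e (P.map j)) - M.mulVec base (e (P.map j)))
    let ext : Fin k → T := fun i => ∑ j, if e (P.map j) = i then y j else 0
    refine ⟨base + ext, funext fun i => ?_⟩
    rw [Matrix.mulVec_add, Pi.add_apply]
    by_cases hi : ∃ j, e (P.map j) = i
    · obtain ⟨j, rfl⟩ := hi
      have e1 : M.mulVec ext (e (P.map j)) = M₀.mulVec y j := by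
        simp only [Matrix.mulVec, dotProduct, ext, Finset.mul_sum, mul_ite, mul_zero]
        rw [Finset.sum_comm]
        refine Finset.sum_congr rfl fun j' _ => ?_
        rw [Finset.sum_ite_eq Finset.univ (e (P.map j')), if_pos (Finset.mem_univ _)]
        simp only [M, M₀, Matrix.of_apply, Matrix.map_apply, Matrix.transpose_apply, hGmap, f,
          Algebra.PreSubmersivePresentation.jacobiMatrix_apply]
        rw [pderiv_rename e.injective, hptf]
      rw [e1, hy]
      ring
    · have hrow : ∀ l, M i l = if l = i then algebraMap R T (s i) else 0 := fun l => by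
        simp only [M, Matrix.of_apply, hGfree i (not_exists.1 hi)]
        by_cases hl : l = i
        · subst hl; simp [pderiv_X]
        · simp [pderiv_X, hl, Pi.single_apply, Ne.symm hl]
      have hmv : ∀ v : Fin k → T, M.mulVec v i = algebraMap R T (s i) * v i := fun v => by
        simp [Matrix.mulVec, dotProduct, hrow]
      rw [hmv, hmv]
      have e2 : ext i = 0 := Finset.sum_eq_zero fun j _ => if_neg fun hj => hi ⟨j, hj⟩
      rw [e2, mul_zero, add_zero, show base i = ↑(u i)⁻¹ * w i from if_neg hi, ← hu, Units.mul_inv_cancel_left]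
  -- the root
  let GT : Fin k → MvPolynomial (Fin k) T := fun i => MvPolynomial.map (algebraMap R T) (G i)
  have hev : ∀ (a : Fin k → T) (q : MvPolynomial (Fin k) R),
      MvPolynomial.eval a (MvPolynomial.map (algebraMap R T) q) = aeval a q := fun a q => by
    rw [MvPolynomial.eval_map]; rfl
  have hjacT : ∀ a : Fin k → T, MvPolynomial.eval a (Hens.jacDet GT) = aeval a (Hens.jacDet G) := fun a => by
    rw [Hens.jacDet, Hens.jacDet, RingHom.map_det, AlgHom.map_det]
    congr 1
    ext i l
    simp [GT, pderiv_map, hev]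
  have h0 : ∀ i, MvPolynomial.eval pt (GT i) ∈ J := fun i => by
    rw [hev]
    by_cases hi : ∃ j, e (P.map j) = i
    · obtain ⟨j, rfl⟩ := hi
      rw [hGmap, hptf, P.aeval_val_relation, map_zero]
      exact zero_mem _
    · rw [hGfree i (not_exists.1 hi)]
      simpa using hsr i
  obtain ⟨c, hc, hcJ⟩ := Hens.exists_zero_of_isUnit_jacDet ‹HenselianRing T J› GT pt h0 (by
    rw [hjacT]; exact hdet.map _)
  haveI het := Hens.etale_away_jacDet G
  let Q := MvPolynomial (Fin k) R ⧸ Ideal.span (Set.range G)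
  let R' := Localization.Away (Ideal.Quotient.mk (Ideal.span (Set.range G)) (Hens.jacDet G))
  have hGc : ∀ i, aeval c (G i) = 0 := fun i => by rw [← hev]; exact hc i
  let ψ₀ : Q →ₐ[R] T := Ideal.Quotient.liftₐ _ (aeval c) fun q hq => by
    refine (Ideal.span_le (I := RingHom.ker (aeval c : MvPolynomial (Fin k) R →ₐ[R] T))).2 ?_ hq
    rintro _ ⟨i, rfl⟩
    exact hGc i
  have hcong : ∀ q : MvPolynomial (Fin k) R, aeval pt q - aeval c q ∈ J := fun q => by
    rw [← Ideal.Quotient.eq]
    have : (Ideal.Quotient.mkₐ R J).comp (aeval pt) = (Ideal.Quotient.mkₐ R J).comp (aeval c) :=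
      MvPolynomial.algHom_ext fun i => by
        simp only [AlgHom.comp_apply, aeval_X, Ideal.Quotient.mkₐ_eq_mk, Ideal.Quotient.eq]
        exact neg_sub (c i) (pt i) ▸ J.neg_mem (hcJ i)
    exact AlgHom.congr_fun this q
  have hunit : IsUnit (ψ₀ (Ideal.Quotient.mk _ (Hens.jacDet G))) := by
    show IsUnit (aeval c (Hens.jacDet G))
    rw [show aeval c (Hens.jacDet G) = aeval pt (Hens.jacDet G) - (aeval pt (Hens.jacDet G) - aeval c (Hens.jacDet G)) by ring]
    obtain ⟨v, hv⟩ := hdet
    rw [← hv]
    have hj := HenselianRing.jac (I := J) (hcong (Hens.jacDet G))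
    rw [Ideal.mem_jacobson_bot] at hj
    have h1 := hj (-↑v⁻¹)
    rw [← hv] at h1
    have h2 := v.isUnit.mul h1
    convert h2 using 1
    linear_combination ((v : T) - aeval c (Hens.jacDet G)) * v.mul_inv
  let ψ : R' →ₐ[R] T := IsLocalization.Away.liftAlgHom _ (f := ψ₀) hunit
  let toR' : MvPolynomial (Fin k) R →ₐ[R] R' := (IsScalarTower.toAlgHom R Q R').comp (Ideal.Quotient.mkₐ R _)
  have hψ : ∀ q, ψ (toR' q) = aeval c q := fun q => by
    show ψ (algebraMap Q R' _) = _
    exact IsLocalization.Away.lift_eq (g := ψ₀.toRingHom) _ hunit (Ideal.Quotient.mk _ q)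
  let gP : P.Ring →ₐ[R] R' := toR'.comp (rename e)
  have hker : ∀ q : P.Ring, aeval P.val q = 0 → gP q = 0 := fun q hq => by
    have hq' : q ∈ Ideal.span (Set.range P.relation) := by
      rw [P.span_range_relation_eq_ker, P.ker_eq_ker_aeval_val]
      exact hq
    refine (Ideal.span_le (I := RingHom.ker gP)).2 ?_ hq'
    rintro _ ⟨j, rfl⟩
    show algebraMap Q R' (Ideal.Quotient.mk _ (rename e (P.relation j))) = 0
    rw [Ideal.Quotient.eq_zero_iff_mem.2 (show rename e (P.relation j) ∈ Ideal.span (Set.range G) from Ideal.subset_span ⟨_, hGmap j⟩),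
      map_zero]
  let g₂ : B₂ →ₐ[R] R' := AlgHom.liftOfSurjective (aeval P.val) (fun x => ⟨P.σ x, P.aeval_val_σ x⟩) gP hker
  refine ⟨R', inferInstance, inferInstance, het, g₂.comp (IsScalarTower.toAlgHom R B B₂), ψ, fun b => ?_⟩
  obtain ⟨q, hq⟩ : ∃ q : P.Ring, aeval P.val q = algebraMap B B₂ b := ⟨_, P.aeval_val_σ _⟩
  have e1 : h b = aeval pt (rename e q) := by
    rw [hptf, hq]
    exact congrArg h (retr.commutes b).symm
  show h b - ψ (g₂ (algebraMap B B₂ b)) ∈ J
  rw [e1, ← hq, AlgHom.liftOfSurjective_apply]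
  show _ - ψ (toR' (rename e q)) ∈ J
  rw [hψ]
  exact hcong _

/-- A solution in a henselian target is approximated in an étale algebra over the base. -/
theorem exists_etale_solution {R T : Type u} [CommRing R] [IsNoetherianRing R] [CommRing T] [IsNoetherianRing T]
    [Algebra R T] (hreg : CAlg.IsRegularHom R T) (J : Ideal T) [HenselianRing T J]
    (happ : ∀ x : T, ∃ s r : R, IsUnit (algebraMap R T s) ∧ algebraMap R T s * x - algebraMap R T r ∈ J)
    {n m : ℕ} (F : Fin m → MvPolynomial (Fin n) R) (a : Fin n → T) (ha : ∀ j, aeval a (F j) = 0) :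
    ∃ (R' : Type u) (_ : CommRing R') (_ : Algebra R R'), Algebra.Etale R R' ∧
      ∃ (ψ : R' →ₐ[R] T) (b : Fin n → R'), (∀ j, aeval b (F j) = 0) ∧ ∀ i, a i - ψ (b i) ∈ J := by
  let E := MvPolynomial (Fin n) R ⧸ Ideal.span (Set.range F)
  haveI : Algebra.FinitePresentation R E :=
    Algebra.FinitePresentation.quotient (Submodule.fg_span (Set.finite_range _))
  let φ : E →ₐ[R] T := Ideal.Quotient.liftₐ _ (aeval a) fun q hq => by
    refine (Ideal.span_le (I := RingHom.ker (aeval a : MvPolynomial (Fin n) R →ₐ[R] T))).2 ?_ hq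
    rintro _ ⟨i, rfl⟩
    exact ha i
  obtain ⟨B, _, _, hB, g, h, hgh⟩ := PopescuH7.indSmooth_of_isRegularHom hreg E inferInstance φ
  haveI := hB
  obtain ⟨R', _, _, het, g', ψ, hcong⟩ := exists_etale_approx J happ h
  let b : Fin n → R' := fun i => g' (g (Ideal.Quotient.mk _ (X i)))
  refine ⟨R', inferInstance, inferInstance, het, ψ, b, fun j => ?_, fun i => ?_⟩
  · have : (aeval b : MvPolynomial (Fin n) R →ₐ[R] R') = (g'.comp g).comp (Ideal.Quotient.mkₐ R _) :=
      MvPolynomial.algHom_ext fun i => aeval_X b i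
    rw [this]
    show g' (g (Ideal.Quotient.mk _ (F j))) = 0
    rw [Ideal.Quotient.eq_zero_iff_mem.2 (show F j ∈ Ideal.span (Set.range F) from Ideal.subset_span ⟨j, rfl⟩), map_zero, map_zero]
  · have : h (g (Ideal.Quotient.mk _ (X i))) = a i := by
      rw [← AlgHom.comp_apply h g, hgh]
      exact aeval_X a i
    rw [← this]
    exact hcong _

end Groth.Agent.ArtinApproxH7
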