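import Groth.Agent.S6825
import Groth.Agent.Lib.Hens.SmoothLift
import Groth.Agent.Lib.ArtinApproxH7.Core

/-!
The approximation property of Henselian local G-rings.
-/

set_option autoImplicit false
set_option linter.style.haveILetI false

universe u

open IsLocalRing

namespace Groth.Agent.ArtinApproxH7

/-- Solutions in the completion are approximated by solutions in a Henselian G-ring. -/
theorem exists_solution_of_henselian {R : Type u} [CommRing R] [HenselianLocalRing R] (hG : CAlg.IsGRing R)
    {n m : ℕ} (F : Fin m → MvPolynomial (Fin n) R)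
    (a : Fin n → AdicCompletion (maximalIdeal R) R) (ha : ∀ j, MvPolynomial.aeval a (F j) = 0) (N : ℕ) :
    ∃ b : Fin n → R, (∀ j, MvPolynomial.aeval b (F j) = 0) ∧
      ∀ i, a i - algebraMap R (AdicCompletion (maximalIdeal R) R) (b i) ∈
        (maximalIdeal R ^ N).map (algebraMap R (AdicCompletion (maximalIdeal R) R)) := by
  obtain ⟨R', _, _, het, ψ, m', hm', hcomap, hres, hψ, b, hb, hcong⟩ := S6825.result hG F a ha N
  haveI := het
  let T := AdicCompletion (maximalIdeal R) R
  let π : R →ₐ[R] R' ⧸ m' := Algebra.ofId R _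
  have hπ : Function.Surjective π := fun y => by
    obtain ⟨x, rfl⟩ := Ideal.Quotient.mk_surjective y
    obtain ⟨r, hr⟩ := hres x
    exact ⟨r, (Ideal.Quotient.eq.2 hr).symm⟩
  have hker : RingHom.ker π = maximalIdeal R := by
    rw [← hcomap]
    ext r
    show Ideal.Quotient.mk m' (algebraMap R R' r) = 0 ↔ _
    rw [Ideal.Quotient.eq_zero_iff_mem, Ideal.mem_comap]
  let σ : R' →ₐ[R] R ⧸ maximalIdeal R :=
    ((Ideal.quotientEquivAlgOfEq R hker).toAlgHom.comp (Ideal.quotientKerAlgEquivOfSurjective hπ).symm.toAlgHom).comp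
      (Ideal.Quotient.mkₐ R m')
  obtain ⟨τ, hτ⟩ := Hens.exists_smooth_lift_of_henselianRing
    (inferInstance : HenselianRing R (maximalIdeal R)) σ
  refine ⟨fun i => τ (b i), fun j => ?_, fun i => ?_⟩
  · rw [← map_zero τ, ← hb j]
    exact DFunLike.congr_fun (MvPolynomial.comp_aeval b τ).symm (F j)
  have hI : (maximalIdeal R).FG := hG.1.noetherian _
  let J := (maximalIdeal R ^ N).map (algebraMap R T)
  have hnil : IsNilpotent ((maximalIdeal R).map (algebraMap R (T ⧸ J))) :=
    ⟨N, by rw [← Ideal.map_pow, IsScalarTower.algebraMap_eq R T (T ⧸ J), ← Ideal.map_map]; exact Ideal.map_quotient_self J⟩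
  have hmodm : ∀ x : R', ψ x - algebraMap R T (τ x) ∈ (maximalIdeal R).map (algebraMap R T) := fun x => by
    obtain ⟨r, hr⟩ := hres x
    have h1 := hψ _ hr
    rw [map_sub, ψ.commutes] at h1
    have h2 : τ x - r ∈ maximalIdeal R := by
      rw [← Ideal.Quotient.eq, ← Ideal.Quotient.mkₐ_eq_mk R, ← AlgHom.comp_apply, hτ]
      show σ x = algebraMap R (R ⧸ maximalIdeal R) r
      rw [← σ.commutes r]
      show ((Ideal.quotientEquivAlgOfEq R hker).toAlgHom.comp (Ideal.quotientKerAlgEquivOfSurjective hπ).symm.toAlgHom)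
        (Ideal.Quotient.mk m' x) = ((Ideal.quotientEquivAlgOfEq R hker).toAlgHom.comp (Ideal.quotientKerAlgEquivOfSurjective hπ).symm.toAlgHom)
        (Ideal.Quotient.mk m' (algebraMap R R' r))
      rw [Ideal.Quotient.eq.2 hr]
    have := sub_mem h1 (Ideal.mem_map_of_mem (algebraMap R T) h2)
    rwa [map_sub, sub_sub_sub_cancel_right] at this
  have key : (Ideal.Quotient.mkₐ R J).comp ψ = (Ideal.Quotient.mkₐ R J).comp ((Algebra.ofId R T).comp τ) := by
    refine Algebra.FormallyUnramified.ext _ hnil fun x => ?_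
    rw [Ideal.Quotient.eq]
    have := Ideal.mem_map_of_mem (Ideal.Quotient.mk J) (hmodm x)
    rw [Ideal.map_map, map_sub] at this
    exact this
  have h3 : ψ (b i) - algebraMap R T (τ (b i)) ∈ J := Ideal.Quotient.eq.1 (AlgHom.congr_fun key (b i))
  simpa using add_mem (hcong i) h3

/-- Points of finite type algebras in the completion are approximated by points in the ring. -/
theorem exists_algHom_of_henselian {R B : Type u} [CommRing R] [HenselianLocalRing R] (hG : CAlg.IsGRing R)
    [CommRing B] [Algebra R B] [Algebra.FiniteType R B] (φ : B →ₐ[R] AdicCompletion (maximalIdeal R) R) (N : ℕ) :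
    ∃ g : B →ₐ[R] R, ∀ x, φ x - algebraMap R (AdicCompletion (maximalIdeal R) R) (g x) ∈
      (maximalIdeal R ^ N).map (algebraMap R (AdicCompletion (maximalIdeal R) R)) := by
  haveI := hG.1
  obtain ⟨n, π, hπ⟩ := Algebra.FiniteType.iff_quotient_mvPolynomial''.1 ‹Algebra.FiniteType R B›
  obtain ⟨m, F, hF⟩ := Submodule.fg_iff_exists_fin_generating_family.1
    (IsNoetherian.noetherian (RingHom.ker π.toRingHom))
  have hev : (MvPolynomial.aeval fun i => φ (π (MvPolynomial.X i))) = φ.comp π :=
    MvPolynomial.algHom_ext fun i => by simp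
  obtain ⟨b, hb, hcong⟩ := exists_solution_of_henselian hG F (fun i => φ (π (MvPolynomial.X i))) (fun j => by
    rw [hev, AlgHom.comp_apply,
      show π (F j) = 0 from (show F j ∈ RingHom.ker π.toRingHom from hF ▸ Ideal.subset_span ⟨j, rfl⟩), map_zero]) N
  have hker : RingHom.ker π ≤ RingHom.ker (MvPolynomial.aeval b : MvPolynomial (Fin n) R →ₐ[R] R) := by
    show RingHom.ker π.toRingHom ≤ _
    rw [← hF]
    refine Ideal.span_le.2 ?_
    rintro _ ⟨j, rfl⟩
    exact hb j
  refine ⟨AlgHom.liftOfSurjective π hπ (MvPolynomial.aeval b) hker, fun x => ?_⟩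
  obtain ⟨P, rfl⟩ := hπ x
  rw [AlgHom.liftOfSurjective_apply]
  let q := Ideal.Quotient.mkₐ R ((maximalIdeal R ^ N).map (algebraMap R (AdicCompletion (maximalIdeal R) R)))
  have h : q.comp (φ.comp π) = q.comp ((Algebra.ofId R _).comp (MvPolynomial.aeval b)) :=
    MvPolynomial.algHom_ext fun i => Ideal.Quotient.eq.2 (by simpa using hcong i)
  exact Ideal.Quotient.eq.1 (AlgHom.congr_fun h P)

end Groth.Agent.ArtinApproxH7
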