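import Groth.Agent.Lib.ArtinApproxH7.Scheme
import Groth.Agent.Lib.FlatDepth.CplMap
import Groth.Agent.Lib.ArtFun.Coef

/-!
Congruent maps out of isomorphic completions.
-/

set_option autoImplicit false
set_option linter.style.haveILetI false

universe u

open IsLocalRing CategoryTheory AlgebraicGeometry

namespace Groth.Agent.ArtinApproxH7

theorem sm_comp {X U V : Scheme.{u}} (i : V ⟶ U) (e : U ⟶ X) (v : V) {x : X} (h : e (i v) = x) :
    sm (i ≫ e) (u := v) h = sm e h ≫ i.stalkMap v := by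
  subst h
  simp [sm, Scheme.Hom.stalkMap_comp]

theorem evalₐ_eq_mk_iff {A : Type u} [CommRing A] [IsLocalRing A] [IsNoetherianRing A] (n : ℕ)
    (x : CplLocH7.Cpl A) (a : A) :
    AdicCompletion.evalₐ (maximalIdeal A) n x = Ideal.Quotient.mk (maximalIdeal A ^ n) a ↔
      x - algebraMap A (CplLocH7.Cpl A) a ∈ maximalIdeal (CplLocH7.Cpl A) ^ n := by
  rw [CplLocH7.maximalIdeal_cpl, ← Ideal.map_pow, mem_map_pow_iff _ (IsNoetherian.noetherian _), map_sub,
    AlgHom.commutes, Ideal.Quotient.algebraMap_eq, sub_eq_zero]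

theorem map_mem_pow {A B : Type u} [CommRing A] [CommRing B] [IsLocalRing A] [IsLocalRing B] (f : A →+* B)
    [IsLocalHom f] (n : ℕ) {a : A} (ha : a ∈ maximalIdeal A ^ n) : f a ∈ maximalIdeal B ^ n := by
  have := Ideal.mem_map_of_mem f ha
  rw [Ideal.map_pow] at this
  exact Ideal.pow_right_mono (IsLocalRing.map_maximalIdeal_le f) n this

variable {L M O : Type u} [CommRing L] [IsLocalRing L] [IsNoetherianRing L] [CommRing M] [IsLocalRing M]
  [IsNoetherianRing M] [CommRing O] [IsLocalRing O] [IsNoetherianRing O]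

/-- Congruence at a level gives congruence at lower levels. -/
theorem congr_of_congr (se : L →+* O) (sf : M →+* O) [IsLocalHom se] [IsLocalHom sf]
    (φ : CplLocH7.Cpl M ≃+* CplLocH7.Cpl L) (n : ℕ)
    (hc : ∀ cY cX, φ (algebraMap M _ cY) - algebraMap L _ cX ∈ maximalIdeal (CplLocH7.Cpl L) ^ n →
      sf cY - se cX ∈ maximalIdeal O ^ n)
    (k : ℕ) (hk : k ≤ n) (b : CplLocH7.Cpl M) (cY : M) (cX : L)
    (h1 : b - algebraMap M _ cY ∈ maximalIdeal (CplLocH7.Cpl M) ^ k)
    (h2 : φ b - algebraMap L _ cX ∈ maximalIdeal (CplLocH7.Cpl L) ^ k) :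
    sf cY - se cX ∈ maximalIdeal O ^ k := by
  haveI : IsLocalHom φ.toRingHom := ⟨fun a h => by simpa using h.map φ.symm⟩
  obtain ⟨cX', h'⟩ := CplLocH7.exists_sub_mem_pow n (φ (algebraMap M _ cY))
  have h3 : algebraMap L (CplLocH7.Cpl L) (cX' - cX) ∈ maximalIdeal (CplLocH7.Cpl L) ^ k := by
    have : algebraMap L (CplLocH7.Cpl L) (cX' - cX) = (φ b - algebraMap L _ cX) - φ (b - algebraMap M _ cY) -
        (φ (algebraMap M _ cY) - algebraMap L _ cX') := by rw [map_sub, map_sub]; ring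
    rw [this]
    exact sub_mem (sub_mem h2 (map_mem_pow φ.toRingHom k h1)) (Ideal.pow_le_pow_right hk h')
  have h4 := map_mem_pow se k ((CplLocH7.mem_pow_iff k _).1 h3)
  rw [map_sub] at h4
  simpa using add_mem (Ideal.pow_le_pow_right hk (hc cY cX' h')) h4

/-- A map congruent to an isomorphism of completions modulo the square of the maximal ideal is formally étale. -/
theorem flat_unramified_of_congr (se : L →+* O) (sf : M →+* O) [IsLocalHom se] [IsLocalHom sf]
    (hse : se.Flat) (hm : (maximalIdeal L).map se = maximalIdeal O) (hs : ∀ z : O, ∃ c, z - se c ∈ maximalIdeal O)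
    (φ : CplLocH7.Cpl M ≃+* CplLocH7.Cpl L) (n : ℕ) (hn : 2 ≤ n)
    (hc : ∀ cY cX, φ (algebraMap M _ cY) - algebraMap L _ cX ∈ maximalIdeal (CplLocH7.Cpl L) ^ n →
      sf cY - se cX ∈ maximalIdeal O ^ n) :
    sf.Flat ∧ (maximalIdeal M).map sf = maximalIdeal O ∧ ∀ z : O, ∃ c, z - sf c ∈ maximalIdeal O := by
  have key : ∀ cX : L, ∃ cY : M, sf cY - se cX ∈ maximalIdeal O ^ 2 ∧ (cX ∈ maximalIdeal L → cY ∈ maximalIdeal M) := by
    intro cX
    haveI : IsLocalHom φ.symm.toRingHom := ⟨fun a h => by simpa using h.map φ⟩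
    let b := φ.symm (algebraMap L _ cX)
    obtain ⟨cY, hY⟩ := CplLocH7.exists_sub_mem_pow 2 b
    refine ⟨cY, congr_of_congr se sf φ n hc 2 hn b cY cX hY ?_, fun hX => ?_⟩
    · rw [φ.apply_symm_apply, sub_self]; exact zero_mem _
    · have hb : b ∈ maximalIdeal (CplLocH7.Cpl M) :=
        map_nonunit φ.symm.toRingHom _ (map_nonunit (algebraMap L (CplLocH7.Cpl L)) _ hX)
      have := sub_mem hb (Ideal.pow_le_self two_ne_zero hY)
      rw [sub_sub_cancel] at this
      exact fun hu => this (hu.map _)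
  have hres : ∀ z : O, ∃ c, z - sf c ∈ maximalIdeal O := fun z => by
    obtain ⟨cX, hX⟩ := hs z
    obtain ⟨cY, hY, -⟩ := key cX
    exact ⟨cY, by simpa using sub_mem hX (Ideal.pow_le_self two_ne_zero hY)⟩
  have hmM : (maximalIdeal M).map sf = maximalIdeal O := by
    refine le_antisymm (IsLocalRing.map_maximalIdeal_le sf) ?_
    refine Submodule.le_of_le_smul_of_le_jacobson_bot (IsNoetherian.noetherian _)
      (IsLocalRing.jacobson_eq_maximalIdeal (⊥ : Ideal O) bot_ne_top).ge ?_
    rw [smul_eq_mul, ← pow_two]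
    conv_lhs => rw [← hm]
    refine Ideal.map_le_iff_le_comap.2 fun cX hX => ?_
    obtain ⟨cY, hY, hY'⟩ := key cX
    rw [Ideal.mem_comap]
    rw [← sub_sub_cancel (sf cY) (se cX)]
    exact sub_mem (Submodule.mem_sup_left (Ideal.mem_map_of_mem sf (hY' hX))) (Submodule.mem_sup_right hY)
  refine ⟨?_, hmM, hres⟩
  -- surjectivity and injectivity on completions
  have main : ∀ (N : Type u) [CommRing N] [IsLocalRing N] [IsNoetherianRing N] (s : N →+* O) [IsLocalHom s],
      (maximalIdeal N).map s = maximalIdeal O → (∀ z : O, ∃ c, z - s c ∈ maximalIdeal O) →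
      ∃ g : CplLocH7.Cpl N →+* CplLocH7.Cpl O, Function.Surjective g ∧ (s.Flat → Function.Injective g) ∧
        (Function.Bijective g → s.Flat) := by
    intro N _ _ _ s _ hms hrs
    letI : Algebra N O := s.toAlgebra
    haveI : IsLocalHom (algebraMap N O) := ‹IsLocalHom s›
    obtain ⟨_, htow, hff⟩ := FlatDepth.exists_cpl_tower N O
    refine ⟨algebraMap (CplLocH7.Cpl N) (CplLocH7.Cpl O), fun y => ?_, fun hfl => ?_, fun hbij => ?_⟩
    · obtain ⟨c, hc⟩ := CplLocH7.surjective_linearCombination (A := N) (B := O) hms (fun _ : Unit => (1 : O))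
        (fun b => by
          obtain ⟨c, hc⟩ := hrs b
          refine ⟨fun _ => c, ?_⟩
          simp [Algebra.smul_def]
          exact hc) y
      exact ⟨c (), by rw [← hc]; simp [Fintype.linearCombination_apply, Algebra.smul_def]⟩
    · haveI := hff hfl
      rw [injective_iff_map_eq_zero]
      intro a ha
      have h0 : a ∈ ((⊥ : Ideal (CplLocH7.Cpl N)).map (algebraMap (CplLocH7.Cpl N) (CplLocH7.Cpl O))).comap
          (algebraMap (CplLocH7.Cpl N) (CplLocH7.Cpl O)) := by
        rw [Ideal.map_bot]; exact ha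
      rwa [Ideal.comap_map_eq_self_of_faithfullyFlat] at h0
    · have : Module.Flat (CplLocH7.Cpl N) (CplLocH7.Cpl O) :=
        RingHom.flat_algebraMap_iff.1 (RingHom.Flat.of_bijective hbij)
      exact (CplLocH7.flat_iff (A := N) (B := O)).1 this
  obtain ⟨gL, hgLs, hgLi, -⟩ := main L se hm hs
  obtain ⟨gM, hgMs, -, hgMf⟩ := main M sf hmM hres
  let eL : CplLocH7.Cpl L ≃+* CplLocH7.Cpl O := RingEquiv.ofBijective gL ⟨hgLi hse, hgLs⟩
  let f : CplLocH7.Cpl M →+* CplLocH7.Cpl M := φ.symm.toRingHom.comp (eL.symm.toRingHom.comp gM)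
  have hf : Function.Injective f :=
    ArtFunLib.injective_of_surjective_endo f (φ.symm.surjective.comp (eL.symm.surjective.comp hgMs))
  exact hgMf ⟨fun a b h => hf (congrArg (fun z => φ.symm (eL.symm z)) h), hgMs⟩

end Groth.Agent.ArtinApproxH7
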