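import Groth.Agent.Lib.ArtinApproxH7.Henselian
import Groth.Agent.Lib.H2Alg.PSHom
import Groth.Agent.Lib.FlatDepth.CplMap
import Groth.Agent.Lib.GRing6.Permanence

/-!
Retractions realizing factorizations of node parameters.
-/

set_option autoImplicit false
set_option linter.style.haveILetI false

universe u

open IsLocalRing

namespace Groth.Agent.ArtinApproxH7

/-- An ideal of a Noetherian local ring is closed. -/
theorem mem_of_forall_mem_sup_pow {T : Type u} [CommRing T] [IsLocalRing T] [IsNoetherianRing T] (J : Ideal T)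
    {x : T} (h : ∀ n, x ∈ J ⊔ maximalIdeal T ^ n) : x ∈ J := by
  by_cases hJ : J = ⊤
  · rw [hJ]; trivial
  haveI : Nontrivial (T ⧸ J) := Ideal.Quotient.nontrivial_iff.2 hJ
  haveI : IsLocalRing (T ⧸ J) := IsLocalRing.of_surjective' (Ideal.Quotient.mk J) Ideal.Quotient.mk_surjective
  have hne : (maximalIdeal T).map (Ideal.Quotient.mk J) ≠ ⊤ := by
    intro h'
    have := congrArg (Ideal.comap (Ideal.Quotient.mk J)) h'
    rw [Ideal.comap_map_of_surjective _ Ideal.Quotient.mk_surjective, Ideal.comap_top, ← RingHom.ker_eq_comap_bot,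
      Ideal.mk_ker, sup_eq_left.2 (IsLocalRing.le_maximalIdeal hJ)] at this
    exact (maximalIdeal.isMaximal T).ne_top this
  rw [← Ideal.Quotient.eq_zero_iff_mem, ← Ideal.mem_bot, ← Ideal.iInf_pow_eq_bot_of_isLocalRing _ hne, Submodule.mem_iInf]
  intro n
  have := Ideal.mem_map_of_mem (Ideal.Quotient.mk J) (h n)
  rwa [Ideal.map_sup, Ideal.map_quotient_self, bot_sup_eq, Ideal.map_pow] at this

/-- Close factorizations in a factorial domain are the same. -/
theorem exists_span_eq_of_sub_mem {T : Type u} [CommRing T] [IsLocalRing T] [IsNoetherianRing T] [IsDomain T]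
    [UniqueFactorizationMonoid T] (t₁ D : T) (hD : D ≠ 0) :
    ∃ N : ℕ, ∀ a : T, a ∣ D → a - t₁ ∈ maximalIdeal T ^ N → Ideal.span {a} = Ideal.span {t₁} := by
  classical
  letI : StrongNormalizationMonoid T := UniqueFactorizationMonoid.normalizationMonoid
  let S := (UniqueFactorizationMonoid.normalizedFactors D).powerset.toFinset.image fun s => Ideal.span {s.prod}
  have hmem : ∀ a : T, a ∣ D → Ideal.span {a} ∈ S := fun a ha => by
    have ha0 : a ≠ 0 := fun h => hD (zero_dvd_iff.1 (h ▸ ha))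
    refine Finset.mem_image.2 ⟨UniqueFactorizationMonoid.normalizedFactors a, ?_, ?_⟩
    · rw [Multiset.mem_toFinset, Multiset.mem_powerset]
      exact (UniqueFactorizationMonoid.dvd_iff_normalizedFactors_le_normalizedFactors ha0 hD).1 ha
    · exact Ideal.span_singleton_eq_span_singleton.2 (UniqueFactorizationMonoid.prod_normalizedFactors ha0)
  have hn : ∀ J : Ideal T, ∃ n : ℕ, J ≠ Ideal.span {t₁} →
      ¬ (t₁ ∈ J ⊔ maximalIdeal T ^ n ∧ J ≤ Ideal.span {t₁} ⊔ maximalIdeal T ^ n) := fun J => by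
    by_contra hcon
    push Not at hcon
    refine (hcon 0).1 (le_antisymm (fun x hx => mem_of_forall_mem_sup_pow _ fun n => (hcon n).2.2 hx) ?_)
    rw [Ideal.span_singleton_le_iff_mem]
    exact mem_of_forall_mem_sup_pow _ fun n => (hcon n).2.1
  choose n hn using hn
  refine ⟨S.sup n, fun a ha hat => ?_⟩
  by_contra hne
  have hle : maximalIdeal T ^ S.sup n ≤ maximalIdeal T ^ n (Ideal.span {a}) :=
    Ideal.pow_le_pow_right (Finset.le_sup (hmem a ha))
  refine hn _ hne ⟨?_, ?_⟩
  · rw [← sub_sub_cancel a t₁]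
    exact sub_mem (Ideal.mem_sup_left (Ideal.mem_span_singleton_self a)) (Ideal.mem_sup_right (hle hat))
  · rw [Ideal.span_singleton_le_iff_mem]
    have := add_mem (Ideal.mem_sup_right (S := Ideal.span {t₁}) (hle hat)) (Ideal.mem_sup_left (Ideal.mem_span_singleton_self t₁))
    rwa [sub_add_cancel] at this

theorem exists_node_retraction (R : Type u) [CommRing R] [HenselianLocalRing R] (hG : CAlg.IsGRing R)
    [IsDomain (AdicCompletion (maximalIdeal R) R)] [UniqueFactorizationMonoid (AdicCompletion (maximalIdeal R) R)]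
    (Δ t₁ t₂ : R) (hΔ : Δ ≠ 0) (ht₁ : t₁ ∈ maximalIdeal R) (ht₂ : t₂ ∈ maximalIdeal R) (ht : t₁ * t₂ = Δ)
    (C : Type u) [CommRing C] [IsLocalRing C] [Algebra R C] [IsLocalHom (algebraMap R C)]
    [Algebra.EssFiniteType R C]
    (ψ : AdicCompletion (maximalIdeal C) C ≃+*
      (MvPowerSeries (Fin 2) (AdicCompletion (maximalIdeal R) R) ⧸
        Ideal.span {(MvPowerSeries.X 0 * MvPowerSeries.X 1 - MvPowerSeries.C (algebraMap R (AdicCompletion (maximalIdeal R) R) Δ) :
          MvPowerSeries (Fin 2) (AdicCompletion (maximalIdeal R) R))}))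
    (hψ : ψ.toRingHom.comp ((algebraMap C (AdicCompletion (maximalIdeal C) C)).comp (algebraMap R C)) =
      (Ideal.Quotient.mk _).comp ((MvPowerSeries.C : AdicCompletion (maximalIdeal R) R →+*
        MvPowerSeries (Fin 2) (AdicCompletion (maximalIdeal R) R)).comp
          (algebraMap R (AdicCompletion (maximalIdeal R) R)))) :
    ∃ (g : C →ₐ[R] R) (ĝ : AdicCompletion (maximalIdeal C) C →+* AdicCompletion (maximalIdeal R) R),
      ĝ.comp (algebraMap C (AdicCompletion (maximalIdeal C) C)) =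
        (algebraMap R (AdicCompletion (maximalIdeal R) R)).comp g.toRingHom ∧
      Ideal.span {ĝ (ψ.symm (Ideal.Quotient.mk _ (MvPowerSeries.X 0)))} =
        Ideal.span {algebraMap R (AdicCompletion (maximalIdeal R) R) t₁} ∧
      Ideal.span {ĝ (ψ.symm (Ideal.Quotient.mk _ (MvPowerSeries.X 1)))} =
        Ideal.span {algebraMap R (AdicCompletion (maximalIdeal R) R) t₂} := by
  haveI := hG.1
  haveI : IsNoetherianRing C := Algebra.EssFiniteType.isNoetherianRing R C
  let T := CplLocH7.Cpl R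
  haveI : IsNoetherianRing T := CplLocH7.isNoetherianRing_cpl R
  haveI : IsAdicComplete (maximalIdeal T) T := by
    rw [CplLocH7.maximalIdeal_cpl]
    exact (IsAdicComplete.map_algebraMap_iff _ _).2 (AdicCompletion.isAdicComplete (IsNoetherian.noetherian _))
  haveI : IsDomain T := ‹IsDomain (AdicCompletion (maximalIdeal R) R)›
  haveI : UniqueFactorizationMonoid T := ‹UniqueFactorizationMonoid (AdicCompletion (maximalIdeal R) R)›
  have hz : ∀ i, (![algebraMap R T t₁, algebraMap R T t₂] : Fin 2 → T) i ∈ maximalIdeal T := fun i => by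
    fin_cases i
    · exact map_nonunit (algebraMap R T) _ ht₁
    · exact map_nonunit (algebraMap R T) _ ht₂
  obtain ⟨ev, hev⟩ := H2Alg.PSHom.exists_algHom (A := T) (maximalIdeal T) _ hz
  have hevC : ∀ c : T, ev (MvPowerSeries.C c) = c := fun c => by
    rw [MvPowerSeries.c_eq_algebraMap, AlgHom.commutes]
    rfl
  let l : (MvPowerSeries (Fin 2) T ⧸ Ideal.span {(MvPowerSeries.X 0 * MvPowerSeries.X 1 -
      MvPowerSeries.C (algebraMap R T Δ) : MvPowerSeries (Fin 2) T)}) →+* T :=
    Ideal.Quotient.lift _ ev.toRingHom (fun z hz => by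
      obtain ⟨c, rfl⟩ := Ideal.mem_span_singleton'.1 hz
      show ev (c * _) = 0
      rw [map_mul, map_sub, map_mul, hev 0, hev 1, hevC, ← ht, map_mul]
      simp)
  let ĝ₀ : CplLocH7.Cpl C →+* T := l.comp ψ.toRingHom
  have hsurj : Function.Surjective ĝ₀ := fun t => ⟨ψ.symm (Ideal.Quotient.mk _ (MvPowerSeries.C t)), by
    show l (ψ (ψ.symm _)) = t
    rw [ψ.apply_symm_apply]
    exact hevC t⟩
  haveI : IsLocalHom ĝ₀ := hsurj.isLocalHom _
  have hĝ₀R : ∀ r : R, ĝ₀ (algebraMap C _ (algebraMap R C r)) = algebraMap R T r := fun r => by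
    show l (ψ _) = _
    rw [show ψ (algebraMap C (CplLocH7.Cpl C) (algebraMap R C r)) = Ideal.Quotient.mk _ (MvPowerSeries.C (algebraMap R T r)) from RingHom.congr_fun hψ r]
    exact hevC _
  obtain ⟨N, hN⟩ := exists_span_eq_of_sub_mem (algebraMap R T t₁) (algebraMap R T Δ) (by
    haveI := CplLocH7.faithfullyFlat_cpl R
    intro h
    exact hΔ (FaithfulSMul.algebraMap_injective R T (by rw [h, map_zero])))
  let B := Algebra.EssFiniteType.subalgebra R C
  let M := Algebra.EssFiniteType.submonoid R C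
  let φ : B →ₐ[R] T :=
    { ((ĝ₀.comp (algebraMap C (CplLocH7.Cpl C))).comp (algebraMap B C)) with
      commutes' := fun r => hĝ₀R r }
  obtain ⟨g, hg⟩ := exists_algHom_of_henselian hG φ (N + 1)
  have hgm : ∀ x, φ x - algebraMap R T (g x) ∈ maximalIdeal T ^ (N + 1) := fun x => by
    rw [CplLocH7.maximalIdeal_cpl, ← Ideal.map_pow]
    exact hg x
  have hunit : ∀ y : M, IsUnit (g y) := fun y => by
    have h1 : IsUnit (φ y) := ((IsLocalization.map_units C y).map (algebraMap C (CplLocH7.Cpl C))).map ĝ₀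
    by_contra h
    have h2 : algebraMap R T (g y) ∈ maximalIdeal T := map_nonunit (algebraMap R T) _ h
    have h3 := add_mem (Ideal.pow_le_self (Nat.succ_ne_zero N) (hgm y)) h2
    rw [sub_add_cancel] at h3
    exact h3 h1
  let gC : C →ₐ[R] R := IsLocalization.liftAlgHom (M := M) (f := g) hunit
  have hgC : ∀ c, ĝ₀ (algebraMap C _ c) - algebraMap R T (gC c) ∈ maximalIdeal T ^ (N + 1) := fun c => by
    have : (Ideal.Quotient.mk (maximalIdeal T ^ (N + 1))).comp (ĝ₀.comp (algebraMap C (CplLocH7.Cpl C))) =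
        (Ideal.Quotient.mk (maximalIdeal T ^ (N + 1))).comp ((algebraMap R T).comp gC.toRingHom) :=
      IsLocalization.ringHom_ext M (RingHom.ext fun b => by
        show Ideal.Quotient.mk _ (φ b) = Ideal.Quotient.mk _ (algebraMap R T (gC (algebraMap B C b)))
        rw [show gC (algebraMap B C b) = g b from IsLocalization.lift_eq _ b]
        exact Ideal.Quotient.eq.2 (hgm b))
    exact Ideal.Quotient.eq.1 (RingHom.congr_fun this c)
  haveI hl : IsLocalHom gC.toRingHom := ⟨fun c hc => by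
    have h1 : IsUnit (ĝ₀ (algebraMap C _ c)) := by
      by_contra h
      have h3 := sub_mem h (Ideal.pow_le_self (Nat.succ_ne_zero N) (hgC c))
      rw [sub_sub_cancel] at h3
      exact h3 (hc.map (algebraMap R T))
    exact isUnit_of_map_unit (algebraMap C (CplLocH7.Cpl C)) _ (isUnit_of_map_unit ĝ₀ _ h1)⟩
  letI : Algebra C R := gC.toRingHom.toAlgebra
  haveI : IsLocalHom (algebraMap C R) := hl
  let ĝ : CplLocH7.Cpl C →+* T := FlatDepth.cplMap C R
  have hĝ : ∀ c, ĝ (algebraMap C _ c) = algebraMap R T (gC c) := fun c => FlatDepth.cplMap_algebraMap C R c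
  haveI : IsLocalHom ĝ := (IsLocalRing.local_hom_TFAE ĝ).out 2 0 |>.1 (by
    rw [CplLocH7.maximalIdeal_cpl C, Ideal.map_le_iff_le_comap, Ideal.map_le_iff_le_comap]
    intro c hc
    rw [Ideal.mem_comap, Ideal.mem_comap]
    rw [hĝ]
    exact map_nonunit (algebraMap R T) _ (map_nonunit gC.toRingHom _ hc))
  have hclose : ∀ z, ĝ z - ĝ₀ z ∈ maximalIdeal T ^ (N + 1) := fun z => by
    obtain ⟨c, hc⟩ := CplLocH7.exists_sub_mem_pow (A := C) (N + 1) z
    have h1 : ĝ (z - algebraMap C _ c) ∈ maximalIdeal T ^ (N + 1) :=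
      Ideal.pow_right_mono (IsLocalRing.map_maximalIdeal_le ĝ) _ (by rw [← Ideal.map_pow]; exact Ideal.mem_map_of_mem ĝ hc)
    have h2 : ĝ₀ (z - algebraMap C _ c) ∈ maximalIdeal T ^ (N + 1) :=
      Ideal.pow_right_mono (IsLocalRing.map_maximalIdeal_le ĝ₀) _ (by rw [← Ideal.map_pow]; exact Ideal.mem_map_of_mem ĝ₀ hc)
    have := sub_mem (sub_mem h1 h2) (hgC c)
    convert this using 1
    rw [map_sub, map_sub, hĝ]; ring
  let x₀ : CplLocH7.Cpl C := ψ.symm (Ideal.Quotient.mk _ (MvPowerSeries.X 0))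
  let x₁ : CplLocH7.Cpl C := ψ.symm (Ideal.Quotient.mk _ (MvPowerSeries.X 1))
  have hx₀ : ĝ₀ x₀ = algebraMap R T t₁ := by
    show l (ψ (ψ.symm _)) = _
    rw [ψ.apply_symm_apply]
    exact hev 0
  have hprod : ĝ x₀ * ĝ x₁ = algebraMap R T t₁ * algebraMap R T t₂ := by
    have hx : x₀ * x₁ = algebraMap C _ (algebraMap R C Δ) := by
      apply ψ.injective
      rw [map_mul, ψ.apply_symm_apply, ψ.apply_symm_apply, ← map_mul]
      refine Eq.trans ?_ (RingHom.congr_fun hψ Δ).symm
      exact Ideal.Quotient.eq.2 (Ideal.mem_span_singleton_self _)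
    rw [← map_mul, hx, hĝ, AlgHom.commutes, ← map_mul, ht]
    rfl
  have h0 : Ideal.span {ĝ x₀} = Ideal.span {algebraMap R T t₁} := by
    refine hN _ ⟨ĝ x₁, by rw [hprod, ← map_mul, ht]⟩ (Ideal.pow_le_pow_right (Nat.le_succ N) ?_)
    rw [← hx₀]
    exact hclose x₀
  refine ⟨gC, ĝ, RingHom.ext hĝ, h0, ?_⟩
  obtain ⟨w, hw⟩ := Ideal.span_singleton_eq_span_singleton.1 h0
  have ht₁0 : algebraMap R T t₁ ≠ 0 := by
    haveI := CplLocH7.faithfullyFlat_cpl R
    intro h
    have : t₁ = 0 := FaithfulSMul.algebraMap_injective R T (by rw [h, map_zero])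
    exact hΔ (by rw [← ht, this, zero_mul])
  have hx0 : ĝ x₀ ≠ 0 := fun h => ht₁0 (by rw [← hw, h, zero_mul])
  refine Ideal.span_singleton_eq_span_singleton.2 ⟨w⁻¹, mul_left_cancel₀ hx0 ?_⟩
  rw [← mul_assoc, hprod, ← hw]
  show ĝ x₀ * ↑w * algebraMap R T t₂ * ↑w⁻¹ = ĝ x₀ * algebraMap R T t₂
  rw [mul_assoc (ĝ x₀), mul_assoc (ĝ x₀), mul_comm (↑w : T), mul_assoc (algebraMap R T t₂), Units.mul_inv, mul_one]

end Groth.Agent.ArtinApproxH7
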