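import Groth.Agent.Lib.ArtinApproxH7.Local
import Groth.Agent.Lib.Weight4.Mult
import Mathlib.AlgebraicGeometry.Noetherian

/-!
Étale neighbourhoods approximating maps to completed local rings.
-/

set_option autoImplicit false
set_option linter.style.haveILetI false

universe u

open IsLocalRing CategoryTheory AlgebraicGeometry

namespace Groth.Agent.ArtinApproxH7

/-- The map on stalks at a point over a given point. -/
noncomputable abbrev sm {X U : Scheme.{u}} (e : U ⟶ X) {u : U} {x : X} (h : e u = x) :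
    X.presheaf.stalk x ⟶ U.presheaf.stalk u :=
  (X.presheaf.stalkCongr (Inseparable.of_eq h)).inv ≫ e.stalkMap u

theorem germ_sm {X U : Scheme.{u}} (e : U ⟶ X) {u : U} {x : X} (h : e u = x) (V : X.Opens) (hx : x ∈ V) :
    X.presheaf.germ V x hx ≫ sm e h = X.presheaf.germ V (e u) (h.symm ▸ hx) ≫ e.stalkMap u := by
  subst h
  simp [sm]

theorem map_sm_maximalIdeal {X U : Scheme.{u}} (e : U ⟶ X) [Etale e] {u : U} {x : X} (h : e u = x) :
    (maximalIdeal (X.presheaf.stalk x)).map (sm e h).hom = maximalIdeal (U.presheaf.stalk u) := by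
  subst h
  simp only [sm, TopCat.Presheaf.stalkCongr, TopCat.Presheaf.stalkSpecializes_refl, Category.id_comp]
  exact Weight.map_maximalIdeal_stalkMap e u

theorem bijective_residueFieldMap_of_sm {X U : Scheme.{u}} (e : U ⟶ X) {u : U} {x : X} (h : e u = x)
    (hs : ∀ z : U.presheaf.stalk u, ∃ c, z - (sm e h).hom c ∈ maximalIdeal (U.presheaf.stalk u)) :
    Function.Bijective (e.residueFieldMap u) := by
  subst h
  refine ⟨RingHom.injective (e.residueFieldMap u).hom, fun y => ?_⟩
  obtain ⟨z, rfl⟩ := IsLocalRing.residue_surjective (R := U.presheaf.stalk u) y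
  obtain ⟨c, hc⟩ := hs z
  simp only [sm, TopCat.Presheaf.stalkCongr, TopCat.Presheaf.stalkSpecializes_refl, Category.id_comp] at hc
  exact ⟨IsLocalRing.residue _ c, (Ideal.Quotient.eq.2 hc).symm⟩

/-- Elements of a local extension with the same residue field and maximal ideal are approximated. -/
theorem exists_sub_mem_pow_of_residue {L O : Type u} [CommRing L] [IsLocalRing L] [CommRing O] [IsLocalRing O]
    (e : L →+* O) (hm : (maximalIdeal L).map e = maximalIdeal O)
    (hs : ∀ z : O, ∃ c, z - e c ∈ maximalIdeal O) (n : ℕ) (z : O) : ∃ c, z - e c ∈ maximalIdeal O ^ n := by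
  induction n generalizing z with
  | zero => exact ⟨0, by rw [pow_zero, Ideal.one_eq_top]; trivial⟩
  | succ n ih =>
    suffices h : ∀ d ∈ maximalIdeal O ^ n, ∃ c, d - e c ∈ maximalIdeal O ^ (n + 1) by
      obtain ⟨c, hc⟩ := ih z
      obtain ⟨c', hc'⟩ := h _ hc
      exact ⟨c + c', by rw [map_add, ← sub_sub]; exact hc'⟩
    intro d hd
    rw [← hm, ← Ideal.map_pow, Ideal.map] at hd
    refine Submodule.span_induction (p := fun d _ => ∃ c, d - e c ∈ maximalIdeal O ^ (n + 1)) ?_ ⟨0, by simp⟩ ?_ ?_ hd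
    · rintro _ ⟨c, -, rfl⟩
      exact ⟨c, by simp⟩
    · rintro a b - - ⟨c, hc⟩ ⟨c', hc'⟩
      exact ⟨c + c', by rw [map_add, add_sub_add_comm]; exact add_mem hc hc'⟩
    · rintro r a ha ⟨c, hc⟩
      obtain ⟨t, ht⟩ := hs r
      refine ⟨t * c, ?_⟩
      have ha' : a ∈ maximalIdeal O ^ n := by
        rw [← hm, ← Ideal.map_pow]
        exact ha
      have : r • a - e (t * c) = (r - e t) * a + e t * (a - e c) := by rw [smul_eq_mul, map_mul]; ring
      rw [this, pow_succ']
      refine add_mem (Ideal.mul_mem_mul ht ha') (Ideal.mul_mem_left _ _ ?_)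
      rwa [← pow_succ']

/-- Congruences are detected in the completion. -/
theorem mem_pow_of_completion {L O : Type u} [CommRing L] [IsLocalRing L] [IsNoetherianRing L] [CommRing O]
    [IsLocalRing O] (e : L →+* O) (hm : (maximalIdeal L).map e = maximalIdeal O)
    (hs : ∀ z : O, ∃ c, z - e c ∈ maximalIdeal O) (Ψ : O →+* AdicCompletion (maximalIdeal L) L)
    (hΨ : Ψ.comp e = algebraMap L _) (n : ℕ) (z : O)
    (hz : Ψ z ∈ (maximalIdeal L ^ n).map (algebraMap L (AdicCompletion (maximalIdeal L) L))) :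
    z ∈ maximalIdeal O ^ n := by
  obtain ⟨c, hc⟩ := exists_sub_mem_pow_of_residue e hm hs n z
  have h1 : Ψ (z - e c) ∈ (maximalIdeal L ^ n).map (algebraMap L (AdicCompletion (maximalIdeal L) L)) := by
    rw [← hΨ, ← Ideal.map_map, Ideal.map_pow e, hm]
    exact Ideal.mem_map_of_mem Ψ hc
  rw [map_sub] at h1
  have h2 : Ψ (e c) ∈ (maximalIdeal L ^ n).map (algebraMap L (AdicCompletion (maximalIdeal L) L)) := by
    simpa using sub_mem hz h1
  rw [show Ψ (e c) = algebraMap L (AdicCompletion (maximalIdeal L) L) c from RingHom.congr_fun hΨ c] at h2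
  rw [mem_map_pow_iff _ (IsNoetherian.noetherian _), AlgHom.commutes, Ideal.Quotient.algebraMap_eq,
    Ideal.Quotient.eq_zero_iff_mem] at h2
  have h3 : e c ∈ maximalIdeal O ^ n := by
    rw [← hm, ← Ideal.map_pow]
    exact Ideal.mem_map_of_mem e h2
  simpa using add_mem hc h3

/-- The algebraic form of the approximating neighbourhood. -/
theorem exists_chart {A C L B : Type u} [CommRing A] [IsNoetherianRing A] [CommRing C] [IsNoetherianRing C]
    [CommRing L] [IsLocalRing L] [IsNoetherianRing L] [Algebra C L] [CommRing B]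
    (hreg : CAlg.IsRegularHom C (AdicCompletion (maximalIdeal L) L))
    (hfrac : ∀ x : L, ∃ s r : C, IsUnit (algebraMap C L s) ∧ algebraMap C L s * x = algebraMap C L r)
    (α : A →+* C) (β : A →+* B) (hβ : β.FiniteType) (φ : B →+* AdicCompletion (maximalIdeal L) L)
    (hφ : φ.comp β = (algebraMap C (AdicCompletion (maximalIdeal L) L)).comp α) (N : ℕ) :
    ∃ (R' : Type u) (_ : CommRing R') (_ : Algebra C R'), Algebra.Etale C R' ∧
      ∃ (ψ : R' →ₐ[C] AdicCompletion (maximalIdeal L) L) (p' : Ideal R'), p'.IsPrime ∧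
        p' = (maximalIdeal (AdicCompletion (maximalIdeal L) L)).comap ψ.toRingHom ∧
        p'.comap (algebraMap C R') = (maximalIdeal L).comap (algebraMap C L) ∧
        (∀ x : R', ∃ r s : C, IsUnit (algebraMap C L s) ∧ algebraMap C R' s * x - algebraMap C R' r ∈ p') ∧
        ∃ g : B →+* R', g.comp β = (algebraMap C R').comp α ∧
          ∀ z, φ z - ψ (g z) ∈ (maximalIdeal L ^ N).map (algebraMap L (AdicCompletion (maximalIdeal L) L)) := by
  let T := AdicCompletion (maximalIdeal L) L
  letI : Algebra A B := β.toAlgebra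
  haveI : Algebra.FiniteType A B := hβ
  obtain ⟨n, π, hπ⟩ := Algebra.FiniteType.iff_quotient_mvPolynomial''.1 ‹Algebra.FiniteType A B›
  obtain ⟨m, F0, hF0⟩ := Submodule.fg_iff_exists_fin_generating_family.1
    (IsNoetherian.noetherian (RingHom.ker π.toRingHom))
  let a : Fin n → T := fun i => φ (π (MvPolynomial.X i))
  have hev : ∀ P : MvPolynomial (Fin n) A, MvPolynomial.eval₂ ((algebraMap C T).comp α) a P = φ (π P) := fun P => by
    have : MvPolynomial.eval₂Hom ((algebraMap C T).comp α) a = φ.comp π.toRingHom :=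
      MvPolynomial.ringHom_ext (fun r => by
        simp only [MvPolynomial.coe_eval₂Hom, MvPolynomial.eval₂_C, RingHom.coe_comp, Function.comp_apply,
          AlgHom.toRingHom_eq_coe, RingHom.coe_coe]
        rw [← MvPolynomial.algebraMap_eq, AlgHom.commutes]
        exact (RingHom.congr_fun hφ r).symm) (fun i => by simp [a])
    exact RingHom.congr_fun this P
  have ha : ∀ j, MvPolynomial.aeval a (MvPolynomial.map α (F0 j)) = 0 := fun j => by
    rw [MvPolynomial.aeval_def, MvPolynomial.eval₂_map, hev]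
    have : F0 j ∈ RingHom.ker π.toRingHom := hF0 ▸ Ideal.subset_span ⟨j, rfl⟩
    rw [show π (F0 j) = 0 from this, map_zero]
  obtain ⟨R', _, _, het, ψ, p', hp', hp'eq, hp'c, hres, -, b, hb, hcong⟩ :=
    exists_etale_solution_completion hreg hfrac (fun j => MvPolynomial.map α (F0 j)) a ha N
  let γ : MvPolynomial (Fin n) A →+* R' := MvPolynomial.eval₂Hom ((algebraMap C R').comp α) b
  have hker : RingHom.ker π.toRingHom ≤ RingHom.ker γ := by
    rw [← hF0]
    refine Ideal.span_le.2 ?_
    rintro _ ⟨j, rfl⟩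
    have := hb j
    rw [MvPolynomial.aeval_def, MvPolynomial.eval₂_map] at this
    exact this
  let g : B →+* R' := π.toRingHom.liftOfSurjective hπ ⟨γ, hker⟩
  have hg : ∀ P, g (π P) = γ P := fun P => RingHom.liftOfRightInverse_comp_apply π.toRingHom _ _ ⟨γ, hker⟩ P
  refine ⟨R', inferInstance, inferInstance, het, ψ, p', hp', hp'eq, hp'c, hres, g, RingHom.ext fun r => ?_, fun z => ?_⟩
  · show g (β r) = algebraMap C R' (α r)
    rw [show β r = π (MvPolynomial.C r) from (π.commutes r).symm, hg]
    simp [γ]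
  · obtain ⟨P, rfl⟩ := hπ z
    let q := Ideal.Quotient.mk ((maximalIdeal L ^ N).map (algebraMap L T))
    have : q.comp (MvPolynomial.eval₂Hom ((algebraMap C T).comp α) a) = q.comp (ψ.toRingHom.comp γ) :=
      MvPolynomial.ringHom_ext (fun r => by simp [γ, T]) (fun i => by
        simp only [RingHom.coe_comp, Function.comp_apply, MvPolynomial.coe_eval₂Hom, MvPolynomial.eval₂_X, γ]
        exact Ideal.Quotient.eq.2 (hcong i))
    rw [hg, ← hev]
    exact Ideal.Quotient.eq.1 (RingHom.congr_fun this P)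

/-- Stalks of schemes of finite type over a G-ring point are G-rings. -/
theorem isGRing_stalk {X S : Scheme.{u}} (p : X ⟶ S) [LocallyOfFiniteType p] (x : X)
    (hG : CAlg.IsGRing ↑(S.presheaf.stalk (p x))) : CAlg.IsGRing ↑(X.presheaf.stalk x) := by
  algebraize [(p.stalkMap x).hom]
  haveI : Algebra.EssFiniteType (S.presheaf.stalk (p x)) (X.presheaf.stalk x) := LocallyOfFiniteType.stalkMap p x
  exact GRing6.isGRing_of_isLocalization (Algebra.EssFiniteType.subalgebra (S.presheaf.stalk (p x)) (X.presheaf.stalk x)) _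
    (Algebra.EssFiniteType.submonoid (S.presheaf.stalk (p x)) (X.presheaf.stalk x))
    (GRing6.isGRing_of_finiteType (S.presheaf.stalk (p x)) _ hG)

set_option backward.isDefEq.respectTransparency false in
/-- Sections through a morphism from an affine scheme into an affine open. -/
theorem germ_stalkMap_SpecMap_fromSpec {X : Scheme.{u}} {U : X.Opens} (hU : IsAffineOpen U) {R : CommRingCat.{u}}
    (φ : Γ(X, U) ⟶ R) (v : Spec R) (hm : (Spec.map φ ≫ hU.fromSpec) v ∈ U) :
    X.presheaf.germ U _ hm ≫ (Spec.map φ ≫ hU.fromSpec).stalkMap v =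
      φ ≫ (Scheme.ΓSpecIso R).inv ≫ (Spec R).presheaf.germ ⊤ v trivial := by
  rw [Scheme.Hom.germ_stalkMap, Scheme.Hom.comp_app, hU.fromSpec_app_self]
  simp only [Category.assoc]
  rw [Scheme.Hom.naturality_assoc]
  refine Eq.trans ?_ (Scheme.ΓSpecIso_inv_naturality_assoc φ _).symm
  congr 2
  exact TopCat.Presheaf.germ_res _ _ _ _

theorem range_SpecMap_fromSpec {X : Scheme.{u}} {U : X.Opens} (hU : IsAffineOpen U) {R : CommRingCat.{u}}
    (φ : Γ(X, U) ⟶ R) (v : Spec R) {x : X} (hx : x ∈ U)
    (h : Ideal.comap φ.hom v.asIdeal = (maximalIdeal (X.presheaf.stalk x)).comap (X.presheaf.germ U x hx).hom) :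
    (Spec.map φ ≫ hU.fromSpec) v = x := by
  rw [Scheme.Hom.comp_apply]
  refine (congrArg (fun w => hU.fromSpec w) ?_).trans (hU.fromSpec_primeIdealOf ⟨x, hx⟩)
  refine PrimeSpectrum.ext ?_
  letI := X.presheaf.algebra_section_stalk (U := U) ⟨x, hx⟩
  haveI : IsLocalization.AtPrime (X.presheaf.stalk x) (hU.primeIdealOf ⟨x, hx⟩).asIdeal := hU.isLocalization_stalk _
  exact h.trans (IsLocalization.AtPrime.comap_maximalIdeal (X.presheaf.stalk x) _)

end Groth.Agent.ArtinApproxH7
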